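import Mathlib.Topology.Spectral.ConstructibleTopology
import Mathlib.Order.Zorn

/-!
Quotients of spectral spaces by open relations given by spectral maps are spectral.
-/

set_option autoImplicit false

universe v w z

open Topology TopologicalSpace Set

namespace Groth.L24.Top

variable {X : Type v} [TopologicalSpace X]

theorem compactSpace_cons (X : Type v) [TopologicalSpace X] [SpectralSpace X] :
    @CompactSpace X (constructibleTopology X) :=
  @CompactSpace.mk X (constructibleTopology X) (by
    rw [← (WithTopology.ofTopology_surjective (constructibleTopology X)).range_eq, ← Set.image_univ]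
    exact @IsCompact.image _ _ _ (constructibleTopology X) _ _ isCompact_univ
      (WithTopology.continuous_ofTopology (constructibleTopology X)))

theorem isClosed_cons_of_compact_open {V : Set X} (hV : IsOpen V) (hc : IsCompact V) :
    IsClosed[constructibleTopology X] V :=
  @IsClosed.mk _ (constructibleTopology X) _
    (IsCompact.isOpen_constructibleTopology_of_isClosed (by rwa [compl_compl]) hV.isClosed_compl)

theorem isClosed_cons_of_isClosed [PrespectralSpace X] {C : Set X} (hC : IsClosed C) :
    IsClosed[constructibleTopology X] C := by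
  refine @IsClosed.mk _ (constructibleTopology X) _ ?_
  obtain ⟨S, hS, e⟩ := PrespectralSpace.isTopologicalBasis.open_eq_sUnion hC.isOpen_compl
  rw [e]
  exact @isOpen_sUnion _ (constructibleTopology X) _ fun V hV =>
    (hS hV).2.isOpen_constructibleTopology_of_isOpen (hS hV).1

theorem continuous_cons {Y : Type w} [TopologicalSpace Y] {f : X → Y} (hf : IsSpectralMap f) :
    Continuous[constructibleTopology X, constructibleTopology Y] f := by
  refine continuous_generateFrom_iff.2 ?_
  rintro V (⟨ho, hc⟩ | ⟨ho, hc⟩)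
  · exact (hc.preimage_of_isOpen hf ho).isOpen_constructibleTopology_of_isOpen (ho.preimage hf.continuous)
  · refine IsCompact.isOpen_constructibleTopology_of_isClosed ?_ (ho.preimage hf.continuous)
    rw [← preimage_compl]
    exact hc.preimage_of_isOpen hf ho.isOpen_compl

theorem isClosed_cons_gens [PrespectralSpace X] (x : X) :
    IsClosed[constructibleTopology X] {y | y ⤳ x} := by
  have : {y | y ⤳ x} = ⋂ V : {V : Set X // IsOpen V ∧ IsCompact V ∧ x ∈ V}, V.1 := by
    ext y
    simp only [mem_setOf_eq, mem_iInter]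
    refine ⟨fun h V => h.mem_open V.2.1 V.2.2.2, fun h => specializes_iff_forall_open.2 fun s hs hx => ?_⟩
    obtain ⟨V, hV, hxV, hVs⟩ := PrespectralSpace.isTopologicalBasis.exists_subset_of_mem_open hx hs
    exact hVs (h ⟨V, hV.1, hV.2, hxV⟩)
  rw [this]
  exact @isClosed_iInter _ _ (constructibleTopology X) _ fun V => isClosed_cons_of_compact_open V.2.1 V.2.2.1

theorem isClosed_cons_singleton [SpectralSpace X] (x : X) : IsClosed[constructibleTopology X] {x} := by
  have : ({x} : Set X) = closure {x} ∩ {y | y ⤳ x} := by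
    ext y
    refine ⟨fun h => ?_, fun h => ?_⟩
    · obtain rfl : y = x := h
      exact ⟨subset_closure rfl, specializes_rfl⟩
    · exact (h.2.antisymm (specializes_iff_mem_closure.2 h.1)).eq
  rw [this]
  exact @IsClosed.inter _ _ _ (constructibleTopology X) (isClosed_cons_of_isClosed isClosed_closure)
    (isClosed_cons_gens x)

/-- A point in the closure of a pro-constructible set is a specialization of a point of it. -/
theorem exists_specializes_of_mem_closure [SpectralSpace X] {O : Set X}
    (hO : @IsCompact X (constructibleTopology X) O) {x : X} (hx : x ∈ closure O) : ∃ v ∈ O, v ⤳ x := by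
  classical
  obtain ⟨v, hv, hv'⟩ := @IsCompact.inter_iInter_nonempty X (constructibleTopology X) O
    {V : Set X // IsOpen V ∧ IsCompact V ∧ x ∈ V} hO (fun V => V.1)
    (fun V => isClosed_cons_of_compact_open V.2.1 V.2.2.1) fun t => by
      obtain ⟨y, hy, hy'⟩ := mem_closure_iff.1 hx (⋂ V ∈ t, V.1)
        (isOpen_biInter_finset fun V _ => V.2.1) (mem_iInter₂.2 fun V _ => V.2.2.2)
      exact ⟨y, hy', hy⟩
  refine ⟨v, hv, specializes_iff_forall_open.2 fun s hs hxs => ?_⟩
  obtain ⟨V, hV, hxV, hVs⟩ := PrespectralSpace.isTopologicalBasis.exists_subset_of_mem_open hxs hs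
  exact hVs (mem_iInter.1 hv' ⟨V, hV.1, hV.2, hxV⟩)

/-- A nonempty pro-constructible set has a point without proper generalization in it. -/
theorem exists_maximal_mem [SpectralSpace X] {O : Set X} (hO : @IsCompact X (constructibleTopology X) O)
    (hne : O.Nonempty) : ∃ m ∈ O, ∀ a ∈ O, a ⤳ m → m ⤳ a := by
  classical
  have hch : ∀ c : Set O, IsChain (fun a b : O => b.1 ⤳ a.1) c → ∃ ub : O, ∀ a ∈ c, ub.1 ⤳ a.1 := by
    intro c hc
    obtain ⟨v, hv, hv'⟩ := @IsCompact.inter_iInter_nonempty X (constructibleTopology X) O c hO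
      (fun a => {y | y ⤳ a.1.1}) (fun a => isClosed_cons_gens _) fun t => by
        have : Std.Refl (fun a b : O => b.1 ⤳ a.1) := ⟨fun _ => specializes_rfl⟩
        have aux : ∀ t : Finset c, t.Nonempty → ∃ b ∈ t, ∀ d ∈ t, b.1.1 ⤳ d.1.1 := fun t ht => by
          induction ht using Finset.Nonempty.cons_induction with
          | singleton b => exact ⟨b, by simp, fun d hd => by
              obtain rfl : d = b := Finset.mem_singleton.1 hd
              exact specializes_rfl⟩
          | cons b t _ _ ih =>
            obtain ⟨d, hd, hdmax⟩ := ih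
            rcases hc.total b.2 d.2 with h | h
            · exact ⟨d, by simp [hd], fun e he => by
                rcases Finset.mem_cons.1 he with rfl | he
                exacts [h, hdmax e he]⟩
            · exact ⟨b, by simp, fun e he => by
                rcases Finset.mem_cons.1 he with rfl | he
                exacts [specializes_rfl, h.trans (hdmax e he)]⟩
        have key : ∀ t : Finset c, ∃ y ∈ O, ∀ a ∈ t, y ⤳ a.1.1 := fun t => by
          rcases t.eq_empty_or_nonempty with rfl | ht
          · exact ⟨_, hne.some_mem, by simp⟩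
          · obtain ⟨b, -, hb⟩ := aux t ht
            exact ⟨b.1.1, b.1.2, hb⟩
        obtain ⟨y, hy, hy'⟩ := key t
        exact ⟨y, hy, mem_iInter₂.2 hy'⟩
    exact ⟨⟨v, hv⟩, fun a ha => mem_iInter.1 hv' ⟨a, ha⟩⟩
  obtain ⟨m, hm⟩ := exists_maximal_of_chains_bounded hch (fun h₁ h₂ => h₂.trans h₁)
  exact ⟨m.1, m.2, fun a ha h => hm ⟨a, ha⟩ h⟩

variable {U : Type v} {W : Type w} {Y : Type z} [TopologicalSpace U] [TopologicalSpace W] [TopologicalSpace Y]

/-- An open quotient of a spectral space by a relation given by spectral maps is spectral. -/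
theorem spectralSpace_of_rel [SpectralSpace U] [SpectralSpace W] {f : U → Y} (hf : Continuous f)
    (hfo : IsOpenMap f) (hfs : Function.Surjective f) {s t : W → U} (hs : IsSpectralMap s)
    (ht : IsSpectralMap t) (hw : ∀ w, f (s w) = f (t w))
    (hrel : ∀ u u', f u = f u' → ∃ w, s w = u ∧ t w = u') : SpectralSpace Y := by
  classical
  have hsat : ∀ B : Set U, f ⁻¹' (f '' B) = t '' (s ⁻¹' B) := fun B => by
    ext u'
    constructor
    · rintro ⟨u, hu, e⟩
      obtain ⟨w, rfl, rfl⟩ := hrel u u' e
      exact ⟨w, hu, rfl⟩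
    · rintro ⟨w, hb, rfl⟩
      exact ⟨s w, hb, hw w⟩
  have hqc : ∀ B : Set U, IsOpen B → IsCompact B → IsCompact (f ⁻¹' (f '' B)) := fun B ho hc => by
    rw [hsat]
    exact (hc.preimage_of_isOpen hs ho).image ht.continuous
  have hfib : ∀ y, @IsCompact U (constructibleTopology U) (f ⁻¹' {y}) := fun y => by
    obtain ⟨u, rfl⟩ := hfs y
    rw [show f ⁻¹' {f u} = t '' (s ⁻¹' {u}) by rw [← hsat, image_singleton]]
    exact @IsCompact.image W U (constructibleTopology W) (constructibleTopology U) _ _
      (@IsClosed.isCompact W (constructibleTopology W) _ (compactSpace_cons W)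
        (@IsClosed.preimage W U (constructibleTopology W) (constructibleTopology U) s (continuous_cons hs) _
          (isClosed_cons_singleton u))) (continuous_cons ht)
  have hpre : IsTopologicalBasis {V : Set Y | IsOpen V ∧ IsCompact V} := by
    refine isTopologicalBasis_of_isOpen_of_nhds (fun V hV => hV.1) fun y O hy hO => ?_
    obtain ⟨u, rfl⟩ := hfs y
    obtain ⟨B, hB, huB, hBO⟩ :=
      (PrespectralSpace.isTopologicalBasis (X := U)).exists_subset_of_mem_open
        (a := u) (u := f ⁻¹' O) hy (hO.preimage hf)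
    exact ⟨f '' B, ⟨hfo B hB.1, hB.2.image hf⟩, ⟨u, huB, rfl⟩, image_subset_iff.2 hBO⟩
  have : PrespectralSpace Y := ⟨hpre⟩
  have hpc : ∀ V : Set Y, IsOpen V → IsCompact V → IsCompact (f ⁻¹' V) := fun V ho hc => by
    obtain ⟨B, hBo, hBc, hBV⟩ : ∃ B : Set U, IsOpen B ∧ IsCompact B ∧ f '' B = V := by
      obtain ⟨K, hK, hKV⟩ := hfo.exists_opens_image_eq_of_prespectralSpace hf (U := V)
        (fun x _ => hfs x) ho hc
      exact ⟨K, K.2, hK, hKV⟩
    rw [← hBV]
    exact hqc B hBo hBc
  have : T0Space Y := ⟨fun y y' hyy => by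
    obtain ⟨v, hv, hmax⟩ := exists_maximal_mem (hfib y) (hfs y)
    have key : ∀ {a b : Y}, a ⤳ b → ∀ u, f u = b → ∃ v, f v = a ∧ v ⤳ u := fun {a b} hab u hu => by
      obtain ⟨v, hv, hvu⟩ := exists_specializes_of_mem_closure (hfib a) (x := u) (mem_closure_iff.2 fun N hN huN => by
        obtain ⟨v, hvN, hv⟩ := hab.mem_open (hfo N hN) ⟨u, huN, hu⟩
        exact ⟨v, hvN, hv⟩)
      exact ⟨v, hv, hvu⟩
    obtain ⟨v', hv', h₁⟩ := key hyy.symm.specializes v hv
    obtain ⟨v'', hv'', h₂⟩ := key hyy.specializes v' hv'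
    obtain rfl : v'' = v := ((h₂.trans h₁).antisymm (hmax v'' hv'' (h₂.trans h₁))).eq
    obtain rfl : v' = v'' := (h₁.antisymm h₂).eq
    exact hv''.symm.trans hv'⟩
  have : CompactSpace Y := hfs.compactSpace hf
  have : QuasiSeparatedSpace Y := by
    refine ⟨fun A B hAo hAc hBo hBc => ?_⟩
    rw [← image_preimage_eq (A ∩ B) hfs, preimage_inter]
    exact (QuasiSeparatedSpace.inter_isCompact _ _ (hAo.preimage hf) (hpc A hAo hAc) (hBo.preimage hf)
      (hpc B hBo hBc)).image hf
  have : QuasiSober Y := ⟨fun {Z} hZ hZc => by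
    let ι := {V : Set Y // IsOpen V ∧ IsCompact V ∧ (Z ∩ V).Nonempty}
    obtain ⟨u, hu, hu'⟩ := @IsCompact.inter_iInter_nonempty U (constructibleTopology U) (f ⁻¹' Z) ι
      (@IsClosed.isCompact U (constructibleTopology U) _ (compactSpace_cons U)
        (isClosed_cons_of_isClosed (hZc.preimage hf)))
      (fun V => f ⁻¹' V.1) (fun V => isClosed_cons_of_compact_open (V.2.1.preimage hf) (hpc _ V.2.1 V.2.2.1))
      fun S => by
        obtain ⟨y, hy, hy'⟩ := isIrreducible_iff_sInter.1 hZ (S.image (fun V => V.1))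
          (fun V hV => by obtain ⟨V, -, rfl⟩ := Finset.mem_image.1 hV; exact V.2.1)
          (fun V hV => by obtain ⟨V, -, rfl⟩ := Finset.mem_image.1 hV; exact V.2.2.2)
        obtain ⟨u, rfl⟩ := hfs y
        exact ⟨u, hy, mem_iInter₂.2 fun V hV => hy' V.1 (Finset.mem_coe.2 (Finset.mem_image_of_mem _ hV))⟩
    refine ⟨f u, subset_antisymm (closure_minimal (singleton_subset_iff.2 hu) hZc) fun z hz => ?_⟩
    refine mem_closure_iff.2 fun O hO hzO => ⟨f u, ?_, rfl⟩
    obtain ⟨V, hV, hzV, hVO⟩ := hpre.exists_subset_of_mem_open hzO hO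
    exact hVO (mem_iInter.1 hu' ⟨V, hV.1, hV.2, z, hz, hzV⟩)⟩
  exact {}

end Groth.L24.Top
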